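import Groth.Agent.Sk62.PtIntegralField
import Mathlib.RingTheory.Flat.EquationalCriterion
import Mathlib.RingTheory.Ideal.AssociatedPrime.Basic
import Mathlib.RingTheory.IntegralClosure.IntegrallyClosed
import Mathlib.RingTheory.IntegralClosure.Algebra.Basic

/-!
A flat local algebra over a Noetherian normal local domain is a domain when its closed fibre and its local rings
at the other primes are domains.
-/

set_option autoImplicit false
set_option linter.style.haveILetI false

universe u

open IsLocalRing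

namespace Groth.Agent.Int62

variable {D L : Type u} [CommRing D] [CommRing L]

/-- In a normal Noetherian local domain either every nonzero element of the maximal ideal has a nonzero divisor
modulo it, or the maximal ideal is principal. -/
theorem principal_or_regular_mod [IsDomain D] [IsNoetherianRing D] [IsLocalRing D] [IsIntegrallyClosed D]
    (a : D) (ha : a ∈ maximalIdeal D) (ha0 : a ≠ 0) :
    (∃ t, maximalIdeal D = Ideal.span {t}) ∨
      ∃ b ∈ maximalIdeal D, ∀ v, a ∣ b * v → a ∣ v := by
  classical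
  by_contra hcon
  push Not at hcon
  obtain ⟨hnp, hb⟩ := hcon
  have hsub : (maximalIdeal D : Set D) ⊆ ⋃ p ∈ associatedPrimes D (D ⧸ Ideal.span {a}), (p : Set D) := by
    intro b hbm
    rw [biUnion_associatedPrimes_eq_zero_divisors]
    obtain ⟨v, hv1, hv2⟩ := hb b hbm
    refine ⟨Ideal.Quotient.mk _ v, ?_, ?_⟩
    · rwa [Ne, Ideal.Quotient.eq_zero_iff_mem, Ideal.mem_span_singleton]
    · rw [Algebra.smul_def, Ideal.Quotient.algebraMap_eq, ← map_mul, Ideal.Quotient.eq_zero_iff_mem,
        Ideal.mem_span_singleton]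
      exact hv1
  obtain ⟨p, hp, hmp⟩ := (Ideal.subset_union_prime_finite (associatedPrimes.finite D (D ⧸ Ideal.span {a})) ⊥ ⊥
    fun p hp _ _ => AssociatedPrimes.mem_iff.1 hp |>.isPrime).1 hsub
  have hp' := (isAssociatedPrime_iff (R := D)).1 (AssociatedPrimes.mem_iff.1 hp)
  obtain ⟨hpP, x, hpx⟩ := hp'
  obtain ⟨x, rfl⟩ := Ideal.Quotient.mk_surjective x
  have hx : ∀ w ∈ maximalIdeal D, a ∣ w * x := fun w hw => by
    have h1 : w ∈ p := hmp hw
    rw [hpx, Submodule.mem_colon_singleton, Submodule.mem_bot, Algebra.smul_def, Ideal.Quotient.algebraMap_eq,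
      ← map_mul, Ideal.Quotient.eq_zero_iff_mem, Ideal.mem_span_singleton] at h1
    exact h1
  have hxa : ¬ a ∣ x := fun h => hpP.ne_top (by
    rw [Ideal.eq_top_iff_one, hpx, Submodule.mem_colon_singleton, Submodule.mem_bot, one_smul,
      Ideal.Quotient.eq_zero_iff_mem, Ideal.mem_span_singleton]
    exact h)
  have hx0 : x ≠ 0 := fun h => hxa (h ▸ dvd_zero a)
  choose v hv using hx
  by_cases hu : ∃ y, ∃ hy : y ∈ maximalIdeal D, IsUnit (v y hy)
  · obtain ⟨y, hy, hu⟩ := hu
    refine hnp y (le_antisymm (fun w hw => Ideal.mem_span_singleton.2 ?_) ((Ideal.span_singleton_le_iff_mem _).2 hy))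
    refine hu.dvd_mul_right.1 ⟨v w hw, mul_left_cancel₀ (mul_ne_zero ha0 hx0) ?_⟩
    linear_combination a * hv w hw * v y hy - a * hv y hy * v w hw
  · push Not at hu
    let K := FractionRing D
    have hmap : Function.Injective (algebraMap D K) := IsFractionRing.injective D K
    have haK : algebraMap D K a ≠ 0 := (map_ne_zero_iff _ hmap).2 ha0
    let z : K := algebraMap D K x / algebraMap D K a
    let N : Submodule D K := Submodule.map (Algebra.linearMap D K) (maximalIdeal D)
    have hz : IsIntegral D z := by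
      refine isIntegral_of_smul_mem_submodule N ?_ ((IsNoetherian.noetherian _).map _) z ?_
      · intro h
        have : algebraMap D K a ∈ N := ⟨a, ha, rfl⟩
        rw [h, Submodule.mem_bot] at this
        exact haK this
      · rintro _ ⟨w, hw, rfl⟩
        refine ⟨v w hw, (mem_maximalIdeal _).2 (hu w hw), ?_⟩
        simp only [Algebra.linearMap_apply, smul_eq_mul, z]
        rw [div_mul_eq_mul_div, eq_div_iff haK, ← map_mul, ← map_mul]
        exact congrArg _ (by linear_combination -(hv w hw))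
    obtain ⟨c, hc⟩ := IsIntegrallyClosed.isIntegral_iff.1 hz
    refine hxa ⟨c, hmap ?_⟩
    rw [map_mul, hc, mul_div_cancel₀ _ haK]

/-- Two-term flat cancellation: a relation modulo a regular pair comes from a common multiple. -/
theorem exists_common_factor [Algebra D L] [Module.Flat D L] {a b : D}
    (hb : ∀ v, a ∣ b * v → a ∣ v) (p q : L)
    (h : algebraMap D L a * p = algebraMap D L b * q) : ∃ c, q = algebraMap D L a * c := by
  obtain ⟨k, coef, y, hy, hcoef⟩ := Module.Flat.isTrivialRelation_of_sum_smul_eq_zero (R := D) (M := L) (f := ![a, -b]) (x := ![p, q]) (by simp [Fin.sum_univ_two, Algebra.smul_def, h])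
  have hdiv : ∀ j, ∃ w, coef 1 j = a * w := fun j => by
    refine hb _ ⟨coef 0 j, ?_⟩
    have h1 := hcoef j
    simp [Fin.sum_univ_two] at h1
    linear_combination -h1
  choose w hw using hdiv
  refine ⟨∑ j, w j • y j, ?_⟩
  have h1 := hy 1
  simp only [Matrix.cons_val_one, Matrix.cons_val_zero] at h1
  rw [h1, Finset.mul_sum]
  refine Finset.sum_congr rfl fun j _ => ?_
  rw [hw j, Algebra.smul_def, Algebra.smul_def, map_mul, mul_assoc]

variable [IsDomain D] [IsLocalRing D] [IsNoetherianRing L] [IsLocalRing L] [Algebra D L]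
  [IsLocalHom (algebraMap D L)]

/-- Reducedness and irreducibility spread from the punctured spectrum across a point of positive depth. -/
theorem isDomain_of_flat_normal_local [IsNoetherianRing D] [IsIntegrallyClosed D] [Module.Flat D L]
    (hfib : IsDomain (L ⧸ (maximalIdeal D).map (algebraMap D L)))
    (hgen : ∀ (r : Ideal L) [r.IsPrime], r ≠ maximalIdeal L → IsDomain (Localization.AtPrime r)) :
    IsDomain L := by
  classical
  have hreg : ∀ a : D, a ≠ 0 → ∀ c : L, algebraMap D L a * c = 0 → c = 0 := fun a ha c hc => by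
    obtain ⟨k, coef, y, hy, hcoef⟩ := Module.Flat.isTrivialRelation_of_sum_smul_eq_zero
      (f := ![a]) (x := ![c]) (by simp [Algebra.smul_def, hc])
    have h0 := hy 0
    simp only [Matrix.cons_val_zero] at h0
    rw [h0]
    refine Finset.sum_eq_zero fun j _ => ?_
    have hj := hcoef j
    simp [ha] at hj
    rw [hj, zero_smul]
  by_cases hm0 : maximalIdeal D = ⊥
  · rw [hm0, Ideal.map_bot] at hfib
    exact (RingEquiv.quotientBot L).toMulEquiv.isDomain_iff.1 hfib
  by_cases hp : ∃ t, maximalIdeal D = Ideal.span {t}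
  · obtain ⟨t, ht⟩ := hp
    rw [ht, Ideal.map_span, Set.image_singleton] at hfib
    have ht0 : t ≠ 0 := fun h => hm0 (by rw [ht, h, Ideal.span_singleton_eq_bot.2 rfl])
    exact Sk62.isDomain_of_quotient_regular _ (hreg t ht0)
  obtain ⟨a, ha, ha0⟩ := (maximalIdeal D).ne_bot_iff.1 hm0
  have hmemL : ∀ d : D, d ∈ maximalIdeal D → algebraMap D L d ∈ maximalIdeal L := fun d hd =>
    map_nonunit (algebraMap D L) d hd
  have hrad : ∀ I : Ideal L, (∀ (r : Ideal L) [r.IsPrime], r ≠ maximalIdeal L → ¬ I ≤ r) →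
      ∀ d ∈ maximalIdeal D, ∃ N : ℕ, algebraMap D L d ^ N ∈ I := by
    intro I hI d hd
    show algebraMap D L d ∈ I.radical
    rw [Ideal.radical_eq_sInf, Ideal.mem_sInf]
    rintro r ⟨hIr, hr⟩
    haveI := hr
    by_cases hrm : r = maximalIdeal L
    · exact hrm ▸ hmemL d hd
    · exact absurd hIr (hI r hrm)
  haveI hred : _root_.IsReduced L := by
    constructor
    intro x hx
    obtain ⟨N, hN⟩ := hrad ((⊥ : Submodule L L).colon {x}) (fun r _ hr hle => by
      haveI := hgen r hr
      have h1 : algebraMap L (Localization.AtPrime r) x = 0 :=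
        (hx.map (algebraMap L (Localization.AtPrime r))).eq_zero
      obtain ⟨⟨s, hs⟩, hsx⟩ := (IsLocalization.map_eq_zero_iff r.primeCompl _ x).1 h1
      exact hs (hle (Submodule.mem_colon_singleton.2 (by simpa using hsx)))) a ha
    rw [Submodule.mem_colon_singleton, Submodule.mem_bot, smul_eq_mul, ← map_pow] at hN
    exact hreg _ (pow_ne_zero _ ha0) _ hN
  haveI : NoZeroDivisors L := by
    constructor
    intro x y hxy
    by_contra hne
    push Not at hne
    obtain ⟨hx, hy⟩ := hne
    let I₁ : Ideal L := (⊥ : Submodule L L).colon {y}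
    let I₂ : Ideal L := (⊥ : Submodule L L).colon (I₁ : Set L)
    have hI₁ : ∀ z, z ∈ I₁ ↔ z * y = 0 := fun z => by simp [I₁, Submodule.mem_colon_singleton]
    have hI₂ : ∀ z, z ∈ I₂ ↔ ∀ w ∈ I₁, z * w = 0 := fun z => by rw [Submodule.mem_colon]; simp [smul_eq_mul]
    have hsum : ∀ (r : Ideal L) [r.IsPrime], r ≠ maximalIdeal L → ¬ I₁ ⊔ I₂ ≤ r := by
      intro r _ hr hle
      haveI := hgen r hr
      by_cases hy0 : algebraMap L (Localization.AtPrime r) y = 0
      · obtain ⟨⟨s, hs⟩, hsy⟩ := (IsLocalization.map_eq_zero_iff r.primeCompl _ y).1 hy0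
        exact hs (hle (Ideal.mem_sup_left ((hI₁ s).2 hsy)))
      · obtain ⟨T, hT⟩ := IsNoetherian.noetherian I₁
        have hT' : ∀ w : L, w ∈ T → ∃ s ∈ r.primeCompl, s * w = 0 := fun w hw => by
          have hw1 : w ∈ I₁ := hT ▸ Submodule.subset_span hw
          have h2 : algebraMap L (Localization.AtPrime r) w = 0 := by
            refine (mul_eq_zero.1 ?_).resolve_right hy0
            rw [← map_mul, (hI₁ w).1 hw1, map_zero]
          obtain ⟨⟨s, hs⟩, hsw⟩ := (IsLocalization.map_eq_zero_iff r.primeCompl _ w).1 h2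
          exact ⟨s, hs, hsw⟩
        choose! s hs hsw using hT'
        have hprod : (∏ w ∈ T, s w) ∈ r.primeCompl := Submonoid.prod_mem _ fun w hw => hs w hw
        refine hprod (hle (Ideal.mem_sup_right ((hI₂ _).2 fun w hw => ?_)))
        rw [← hT] at hw
        induction hw using Submodule.span_induction with
        | mem w hw => obtain ⟨t, ht⟩ := Finset.dvd_prod_of_mem s hw; rw [ht, mul_right_comm, hsw w hw, zero_mul]
        | zero => rw [mul_zero]
        | add u v _ _ hu hv => rw [mul_add, hu, hv, add_zero]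
        | smul e u _ hu => rw [smul_eq_mul, mul_left_comm, hu, mul_zero]
    obtain ⟨N, hN⟩ := hrad _ hsum a ha
    replace hN : algebraMap D L (a ^ (N + 1)) ∈ I₁ ⊔ I₂ := by
      rw [map_pow, pow_succ]
      exact Ideal.mul_mem_right _ _ hN
    have ha'0 : a ^ (N + 1) ≠ 0 := pow_ne_zero _ ha0
    obtain ⟨b, hb, hbreg⟩ := (principal_or_regular_mod (a ^ (N + 1))
      (Ideal.pow_mem_of_mem _ ha _ N.succ_pos) ha'0).resolve_left hp
    obtain ⟨M, hM⟩ := hrad _ hsum b hb
    have hbreg' : ∀ v, a ^ (N + 1) ∣ b ^ M * v → a ^ (N + 1) ∣ v := by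
      clear hM
      induction M with
      | zero => intro v hv; simpa using hv
      | succ M ih => intro v hv; exact ih v (hbreg _ (by rwa [show b ^ (M + 1) * v = b * (b ^ M * v) by ring] at hv))
    rw [← map_pow] at hM
    obtain ⟨i₁, hi₁, i₂, hi₂, hai⟩ := Submodule.mem_sup.1 hN
    obtain ⟨j₁, hj₁, j₂, hj₂, hbj⟩ := Submodule.mem_sup.1 hM
    have hrel : algebraMap D L (a ^ (N + 1)) * j₂ = algebraMap D L (b ^ M) * i₂ := by
      have h1 : i₁ * j₂ = 0 := by rw [mul_comm]; exact (hI₂ _).1 hj₂ _ hi₁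
      have h2 : j₁ * i₂ = 0 := by rw [mul_comm]; exact (hI₂ _).1 hi₂ _ hj₁
      rw [← hai, ← hbj, add_mul, add_mul, h1, h2, zero_add, zero_add, mul_comm]
    obtain ⟨c, hc⟩ := exists_common_factor hbreg' j₂ i₂ hrel
    rcases IsLocalRing.isUnit_or_isUnit_one_sub_self c with hu | hu
    · have hmem : algebraMap D L (a ^ (N + 1)) ∈ I₂ := by
        rw [← Ideal.mul_unit_mem_iff_mem I₂ hu, ← hc]
        exact hi₂
      exact hx (hreg _ ha'0 x ((hI₂ _).1 hmem x ((hI₁ x).2 hxy)))
    · have hmem : algebraMap D L (a ^ (N + 1)) ∈ I₁ := by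
        have h3 : algebraMap D L (a ^ (N + 1)) * (1 - c) = i₁ := by rw [mul_sub, ← hc, mul_one, ← hai]; ring
        rw [← Ideal.mul_unit_mem_iff_mem I₁ hu, h3]
        exact hi₁
      exact hy (hreg _ ha'0 y ((hI₁ _).1 hmem))
  exact NoZeroDivisors.to_isDomain L

end Groth.Agent.Int62
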