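import Groth.Agent.Int62.LocalLemma
import Groth.Agent.Sk62.PtIntegralOpen
import Groth.Agent.Sk62.FibreRing
import Groth.Agent.FBase64.ProductDim
import Mathlib.RingTheory.Ideal.Height

/-!
Flat algebras of finite type over Noetherian normal domains have integral local rings where the fibre is
geometrically pointwise integral.
-/

set_option autoImplicit false
set_option linter.style.haveILetI false

universe u

open CategoryTheory CategoryTheory.Limits AlgebraicGeometry IsLocalRing

namespace Groth.Agent.Int62

variable {X Y : Scheme.{u}}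

theorem isDomain_stalk_of_isGeomPtIntegralAt {k : Type u} [Field k] {F : Scheme.{u}}
    (g : F ⟶ Spec (CommRingCat.of k)) {z : F} (h : FBase.IsGeomPtIntegralAt g z) :
    IsDomain (F.presheaf.stalk z) := by
  obtain ⟨w, hw⟩ := FBase64.exists_bcπ_eq (K := k) g z
  have := h k w hw
  haveI : Flat (Spec.map (CommRingCat.ofHom (algebraMap k k))) := by
    rw [HasRingHomProperty.Spec_iff (P := @Flat)]
    exact RingHom.Flat.of_bijective Function.bijective_id
  haveI : Flat (FBase.bcπ g k) := inferInstanceAs (Flat (pullback.fst _ _))
  subst hw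
  exact Function.Injective.isDomain _ (FBase64.stalkMap_injective_of_flat (FBase.bcπ g k) w)

theorem isDomain_fibQuot_of_mem_giLocus (f : X ⟶ Y) {x : X} (h : x ∈ Sk62.giLocus f) :
    IsDomain (CM62.FibQuot f x) := by
  have := isDomain_stalk_of_isGeomPtIntegralAt (k := Y.residueField (f x)) (f.fiberToSpecResidueField (f x)) h
  exact (FlatMor68.FibreStalk.fibreStalkEquivAt f x).toMulEquiv.isDomain _

variable {A B : Type u} [CommRing A] [CommRing B] [Algebra A B]

theorem isDomain_fibreRing_of_mem_giLocus (q : PrimeSpectrum B)
    (h : q ∈ Sk62.giLocus (Spec.map (CommRingCat.ofHom (algebraMap A B)))) :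
    IsDomain (RelPd52.fibreRing A q) := by
  obtain ⟨e⟩ := Sk62.exists_fibreRing_equiv (Spec.map (CommRingCat.ofHom (algebraMap A B)))
    (𝟙 (Spec (CommRingCat.of B))) (𝟙 (Spec (CommRingCat.of A))) (by simp) q
  haveI := isDomain_fibQuot_of_mem_giLocus (Spec.map (CommRingCat.ofHom (algebraMap A B)))
    (x := (𝟙 (Spec (CommRingCat.of B)) : Spec (CommRingCat.of B) ⟶ _) q) h
  exact e.toMulEquiv.isDomain _

/-- The local step. -/
theorem isDomain_atPrime_step [IsDomain A] [IsNoetherianRing A] [IsIntegrallyClosed A] [Module.Flat A B]
    [IsNoetherianRing B] (q : Ideal B) [q.IsPrime] (hfib : IsDomain (RelPd52.fibreRing A ⟨q, inferInstance⟩))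
    (hgen : ∀ (Q : Ideal B) [Q.IsPrime], Q < q → IsDomain (Localization.AtPrime Q)) :
    IsDomain (Localization.AtPrime q) := by
  let p := q.under A
  let D := Localization.AtPrime p
  let L := Localization.AtPrime q
  haveI : IsNoetherianRing D := IsLocalization.isNoetherianRing p.primeCompl _ inferInstance
  haveI : IsNoetherianRing L := IsLocalization.isNoetherianRing q.primeCompl _ inferInstance
  haveI : IsDomain D := IsLocalization.isDomain_of_le_nonZeroDivisors D p.primeCompl_le_nonZeroDivisors
  haveI : IsIntegrallyClosed D := isIntegrallyClosed_of_isLocalization D p.primeCompl p.primeCompl_le_nonZeroDivisors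
  haveI : q.LiesOver p := ⟨rfl⟩
  letI : Algebra D L := Localization.AtPrime.algebraOfLiesOver p q
  haveI : IsScalarTower A D L := inferInstance
  haveI : IsLocalHom (algebraMap D L) := Localization.isLocalHom_localRingHom _ _ _ _
  haveI : Module.Flat A L := Module.Flat.trans A B L
  haveI : Module.Flat D L := (Module.flat_iff_of_isLocalization D p.primeCompl (M := L)).2 inferInstance
  refine isDomain_of_flat_normal_local (D := D) (L := L) ?_ fun r _ hr => ?_
  · rw [← IsLocalization.AtPrime.map_eq_maximalIdeal p D, Ideal.map_map, ← IsScalarTower.algebraMap_eq]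
    exact hfib
  · have hlt : r.comap (algebraMap B L) < q := by
      have h1 : r < maximalIdeal L := lt_of_le_of_ne (le_maximalIdeal (Ideal.IsPrime.ne_top ‹_›)) hr
      have h2 := (IsLocalization.orderEmbedding q.primeCompl L).strictMono h1
      exact h2.trans_le (IsLocalization.AtPrime.under_maximalIdeal L q).le
    haveI := hgen _ hlt
    exact (IsLocalization.localizationLocalizationAtPrimeIsoLocalization (M := q.primeCompl) r).toMulEquiv.isDomain_iff.1
      inferInstance

/-- Local rings at points with geometrically pointwise integral fibre are domains. -/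
theorem isDomain_atPrime_noetherian (A B : Type u) [CommRing A] [IsDomain A] [IsNoetherianRing A]
    [IsIntegrallyClosed A] [CommRing B] [Algebra A B] [Algebra.FiniteType A B] [Module.Flat A B]
    (q : PrimeSpectrum B) (h : q ∈ Sk62.giLocus (Spec.map (CommRingCat.ofHom (algebraMap A B)))) :
    IsDomain (Localization.AtPrime q.asIdeal) := by
  haveI : IsNoetherianRing B := Algebra.FiniteType.isNoetherianRing A B
  haveI : Algebra.FinitePresentation A B := Algebra.FinitePresentation.of_finiteType.mp inferInstance
  let f := Spec.map (CommRingCat.ofHom (algebraMap A B))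
  haveI : LocallyOfFinitePresentation f := by
    rw [HasRingHomProperty.Spec_iff (P := @LocallyOfFinitePresentation)]
    exact RingHom.finitePresentation_algebraMap.mpr inferInstance
  haveI : Flat f := by
    rw [HasRingHomProperty.Spec_iff (P := @Flat)]
    exact (RingHom.flat_algebraMap_iff).mpr inferInstance
  suffices key : ∀ (n : ℕ∞) (q : PrimeSpectrum B), q.asIdeal.height = n → q ∈ Sk62.giLocus f →
      IsDomain (Localization.AtPrime q.asIdeal) from key _ q rfl h
  intro n
  induction n using WellFoundedLT.induction with
  | ind n ih =>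
    intro q hn h
    refine isDomain_atPrime_step q.asIdeal (isDomain_fibreRing_of_mem_giLocus q h) fun Q hQ hlt => ?_
    exact ih _ (hn ▸ Ideal.height_strict_mono_of_isPrime_of_isPrime hlt) ⟨Q, hQ⟩ rfl (Sk62.mem_giLocus_of_specializes f
      ((PrimeSpectrum.le_iff_specializes ⟨Q, hQ⟩ q).mp hlt.le) h)

end Groth.Agent.Int62
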