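import Groth.Agent.Int62.Unibranch
import Groth.Agent.Sk62.PreimmFibre

/-! Points with geometrically pointwise integral fibre over a geometrically unibranch local base. -/

set_option autoImplicit false
set_option linter.style.haveILetI false
set_option linter.overlappingInstances false

universe u

open CategoryTheory CategoryTheory.Limits AlgebraicGeometry IsLocalRing

namespace Groth.Agent.Int62

/-- Over the spectrum of the reduction of a geometrically unibranch local ring. -/
theorem isDomain_stalk_of_flat {A : Type u} [CommRing A] [IsLocalRing A] (hA : CAlg2.IsGeomUnibranch A)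
    [IsLocalRing (CAlg2.red A)] [IsDomain (CAlg2.red A)] {P : Scheme.{u}}
    (f : P ⟶ Spec (CommRingCat.of (CAlg2.red A))) [LocallyOfFinitePresentation f] (w : P)
    (hw : f w = closedPoint (CAlg2.red A)) (U : P.Opens) (hwU : w ∈ U) (hflat : Flat (U.ι ≫ f))
    (hgi : w ∈ Sk62.giLocus f) : IsDomain (P.presheaf.stalk w) := by
  obtain ⟨W, hW, hwW, hWU⟩ := exists_isAffineOpen_mem_and_subset (X := P) (x := w) (U := U) hwU
  obtain ⟨φ, hφ⟩ := Spec.map_surjective (hW.fromSpec ≫ f)
  have hφ' : φ.hom.FinitePresentation :=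
    (HasRingHomProperty.Spec_iff (P := @LocallyOfFinitePresentation)).1 (by rw [hφ]; infer_instance)
  haveI := hW.isOpenImmersion_fromSpec
  haveI := hflat
  have hle : W ≤ U := fun a ha => hWU ha
  have hfl : Flat (hW.fromSpec ≫ f) := by
    rw [← hW.isoSpec_inv_ι, Category.assoc, ← P.homOfLE_ι hle, Category.assoc]
    infer_instance
  have hφ'' : φ.hom.Flat := (HasRingHomProperty.Spec_iff (P := @Flat)).1 (hφ ▸ hfl)
  algebraize [φ.hom]
  haveI : Module.Flat (CAlg2.red A) Γ(P, W) := RingHom.flat_algebraMap_iff.1 hφ''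
  obtain ⟨v, hv⟩ : w ∈ Set.range hW.fromSpec := by rw [hW.range_fromSpec]; exact hwW
  let q : PrimeSpectrum Γ(P, W) := v
  have hq : q.asIdeal.comap (algebraMap (CAlg2.red A) Γ(P, W)) = maximalIdeal (CAlg2.red A) := by
    have h1 : (Spec.map φ) v = closedPoint (CAlg2.red A) := by rw [hφ, Scheme.Hom.comp_apply, hv]; exact hw
    exact congrArg PrimeSpectrum.asIdeal h1
  have hgi' : v ∈ Sk62.giLocus (Spec.map φ) := by
    rw [hφ, Sk62.giLocus_openImmersion_comp]
    show hW.fromSpec v ∈ Sk62.giLocus f
    rw [hv]; exact hgi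
  haveI := isDomain_atPrime_of_geomUnibranch hA q hq hgi'
  subst hv
  let e : Localization.AtPrime q.asIdeal ≃+* (Spec Γ(P, W)).presheaf.stalk v :=
    letI : Algebra Γ(P, W) ((Spec Γ(P, W)).presheaf.stalk v) := StructureSheaf.stalkAlgebra Γ(P, W) q
    haveI : IsLocalization.AtPrime ((Spec Γ(P, W)).presheaf.stalk v) q.asIdeal :=
      StructureSheaf.IsLocalization.to_stalk Γ(P, W) q
    (IsLocalization.algEquiv q.asIdeal.primeCompl (Localization.AtPrime q.asIdeal)
      ((Spec Γ(P, W)).presheaf.stalk v)).toRingEquiv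
  haveI : IsDomain ((Spec Γ(P, W)).presheaf.stalk v) := e.symm.toMulEquiv.isDomain _
  exact (asIso (hW.fromSpec.stalkMap v)).commRingCatIsoToRingEquiv.toMulEquiv.isDomain _

end Groth.Agent.Int62
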