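import Groth.Agent.Int62.Normal
import Groth.Agent.E4O.NormalFlatLimit

/-!
Flat finitely presented algebras over normal domains have integral local rings where the fibre is geometrically
pointwise integral.
-/

set_option autoImplicit false
set_option linter.style.haveILetI false

universe u

open CategoryTheory CategoryTheory.Limits AlgebraicGeometry TensorProduct

namespace Groth.Agent.Int62

theorem isDomain_atPrime_of_normal (A B : Type u) [CommRing A] [IsDomain A] [IsIntegrallyClosed A]
    [CommRing B] [Algebra A B] [Algebra.FinitePresentation A B] [Module.Flat A B]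
    (q : PrimeSpectrum B) (hq : q ∈ Sk62.giLocus (Spec.map (CommRingCat.ofHom (algebraMap A B)))) :
    IsDomain (Localization.AtPrime q.asIdeal) := by
  classical
  obtain ⟨C, B₀, _, _, _, _, hC, hB₀, hflat, ⟨e⟩⟩ := Unr55.exists_flat_model A B
  let L := Localization.AtPrime q.asIdeal
  haveI : NoZeroDivisors L := by
    constructor
    intro x y hxy
    obtain ⟨b, s, rfl⟩ := IsLocalization.exists_mk'_eq q.asIdeal.primeCompl x
    obtain ⟨c, t, rfl⟩ := IsLocalization.exists_mk'_eq q.asIdeal.primeCompl y
    rw [← IsLocalization.mk'_mul, IsLocalization.mk'_eq_zero_iff] at hxy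
    obtain ⟨u, hu⟩ := hxy
    rw [IsLocalization.mk'_eq_zero_iff, IsLocalization.mk'_eq_zero_iff]
    let F : Finset B := {b, c, (u : B)}
    choose S hS using fun b : B => TensorProduct.exists_finset (e b)
    obtain ⟨A', _, _, _, ι, _, _, hι, hrange⟩ :=
      E4O.exists_normal_stage (C := C) (A := A) (F.biUnion fun b => (S b).image Prod.fst)
    let B' := A' ⊗[C] B₀
    let j₀ : B' →ₐ[C] A ⊗[C] B₀ := Algebra.TensorProduct.map ι (AlgHom.id C B₀)
    let j : B' →+* B := e.symm.toRingEquiv.toRingHom.comp j₀.toRingHom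
    have hj : Function.Injective j :=
      e.symm.injective.comp (Module.Flat.rTensor_preserves_injective_linearMap ι.toLinearMap hι)
    let q' : PrimeSpectrum B' := PrimeSpectrum.comap j q
    have hlift : ∀ z ∈ F, ∃ z', j z' = z := fun z hz => by
      have hpre : ∀ x ∈ S z, ∃ a', ι a' = x.1 := fun x hx => hrange (Finset.mem_coe.mpr
        (Finset.mem_biUnion.mpr ⟨z, hz, Finset.mem_image_of_mem _ hx⟩))
      choose a' ha' using hpre
      refine ⟨∑ x ∈ (S z).attach, a' x.1 x.2 ⊗ₜ x.1.2, ?_⟩
      apply e.injective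
      show e (e.symm (j₀ _)) = e z
      rw [e.apply_symm_apply, hS z, map_sum, ← Finset.sum_attach (S z)]
      exact Finset.sum_congr rfl fun x _ => by rw [Algebra.TensorProduct.map_tmul, ha']; rfl
    haveI : Algebra.FiniteType A' B' := inferInstance
    haveI : Module.Flat A' B' := inferInstance
    have h1 : IsPushout (CommRingCat.ofHom ι.toRingHom) (CommRingCat.ofHom (algebraMap A' B'))
        (CommRingCat.ofHom (algebraMap A B)) (CommRingCat.ofHom j) := by
      refine IsPushout.of_left (h₁₁ := CommRingCat.ofHom (algebraMap C A')) ?_ ?_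
        (CommRingCat.isPushout_tensorProduct C A' B₀)
      · refine (CommRingCat.isPushout_tensorProduct C A B₀).of_iso (Iso.refl _) (Iso.refl _) (Iso.refl _)
          e.symm.toRingEquiv.toCommRingCatIso ?_ ?_ ?_ ?_
        · ext x; exact (ι.commutes x).symm
        · simp
        · ext x; exact e.symm.commutes x
        · ext x
          show e.symm (1 ⊗ₜ x) = e.symm (Algebra.TensorProduct.map ι (AlgHom.id C B₀) (1 ⊗ₜ x))
          rw [Algebra.TensorProduct.map_tmul, map_one, AlgHom.id_apply]
      · ext x
        show algebraMap A B (ι x) = e.symm (Algebra.TensorProduct.map ι (AlgHom.id C B₀) (x ⊗ₜ 1))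
        rw [Algebra.TensorProduct.map_tmul, AlgHom.id_apply]
        exact (e.symm.commutes _).symm
    haveI := isDomain_atPrime_noetherian A' B' q'
      ((Sk62.mem_giLocus_of_isPullback (isPullback_SpecMap_of_isPushout _ _ _ _ h1.flip) q).mp hq)
    obtain ⟨b', hb'⟩ := hlift b (by simp [F])
    obtain ⟨c', hc'⟩ := hlift c (by simp [F])
    obtain ⟨u', hu'⟩ := hlift u (by simp [F])
    have hu'q : u' ∈ q'.asIdeal.primeCompl := fun h => u.2 (by rw [← hu']; exact h)
    have hzero : u' * (b' * c') = 0 := hj (by rw [map_mul, map_mul, hu', hb', hc', hu, map_zero])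
    have h0 : algebraMap B' (Localization.AtPrime q'.asIdeal) b' * algebraMap B' _ c' = 0 := by
      rw [← map_mul, IsLocalization.map_eq_zero_iff q'.asIdeal.primeCompl]
      exact ⟨⟨u', hu'q⟩, hzero⟩
    rcases mul_eq_zero.1 h0 with h | h <;>
      obtain ⟨⟨w, hw⟩, hwz⟩ := (IsLocalization.map_eq_zero_iff q'.asIdeal.primeCompl _ _).1 h
    · refine Or.inl ⟨⟨j w, fun h' => hw h'⟩, ?_⟩
      show j w * b = 0
      rw [← hb', ← map_mul, hwz, map_zero]
    · refine Or.inr ⟨⟨j w, fun h' => hw h'⟩, ?_⟩
      show j w * c = 0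
      rw [← hc', ← map_mul, hwz, map_zero]
  exact NoZeroDivisors.to_isDomain L

end Groth.Agent.Int62
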