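import Groth.Agent.Int62.Stage
import Groth.Agent.Unib62.Base
import Groth.Prelude.Def_CAlg2
import Mathlib.RingTheory.Localization.Integral
import Mathlib.RingTheory.IntegralClosure.IsIntegralClosure.Basic

/-!
Flat algebras over geometrically unibranch local domains have integral local rings where the fibre is
geometrically pointwise integral.
-/

set_option autoImplicit false
set_option linter.style.haveILetI false
set_option linter.overlappingInstances false

universe u

open CategoryTheory CategoryTheory.Limits AlgebraicGeometry IsLocalRing TensorProduct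

attribute [local instance] Algebra.TensorProduct.rightAlgebra

namespace Groth.Agent.Int62

/-- The normalisation of the reduction of a geometrically unibranch local ring. -/
theorem exists_normalization (A : Type u) [CommRing A] [IsLocalRing A] (hA : CAlg2.IsGeomUnibranch A)
    [IsLocalRing (CAlg2.red A)] [IsDomain (CAlg2.red A)] :
    ∃ (N : Type u) (_ : CommRing N) (_ : IsDomain N) (_ : IsLocalRing N) (_ : Algebra (CAlg2.red A) N)
      (_ : IsLocalHom (algebraMap (CAlg2.red A) N)),
      IsIntegrallyClosed N ∧ Algebra.IsIntegral (CAlg2.red A) N ∧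
      Function.Injective (algebraMap (CAlg2.red A) N) ∧
      IsPurelyInseparable (ResidueField (CAlg2.red A)) (ResidueField N) := by
  obtain ⟨⟨-, hloc⟩, hres⟩ := hA
  let D := CAlg2.red A
  let N := CAlg2.normRed A
  let K := FractionRing D
  haveI := hloc
  have hinj : Function.Injective (algebraMap D N) := fun a b hab =>
    IsFractionRing.injective D K (congrArg Subtype.val hab)
  haveI : IsFractionRing N K := integralClosure.isFractionRing_of_finite_extension (A := D) K K
  have hic : IsIntegrallyClosed N := by
    rw [isIntegrallyClosed_iff (R := N) (K := K)]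
    intro x hx
    exact ⟨⟨x, isIntegral_trans (R := D) x hx⟩, rfl⟩
  haveI : IsLocalHom (algebraMap D N) :=
    RingHom.IsIntegral.isLocalHom (f := algebraMap D N) Algebra.IsIntegral.isIntegral hinj
  refine ⟨N, inferInstance, inferInstance, hloc, inferInstance, inferInstance, hic, inferInstance, hinj, ?_⟩
  haveI : (maximalIdeal N).IsMaximal := maximalIdeal.isMaximal N
  let p := ringExpChar (ResidueField D)
  haveI : ExpChar (ResidueField D) p := ringExpChar.expChar _
  haveI : ExpChar (ResidueField N) p :=
    expChar_of_injective_algebraMap (algebraMap (ResidueField D) (ResidueField N)).injective p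
  have hp : ringExpChar (N ⧸ maximalIdeal N) = p := ringExpChar.eq (ResidueField N) p
  rw [isPurelyInseparable_iff_pow_mem (ResidueField D) p]
  intro x
  obtain ⟨n, d, hd⟩ := hres (maximalIdeal N) x
  rw [hp] at hd
  exact ⟨n, residue D (Ideal.Quotient.mk (nilradical A) d), hd⟩

theorem isDomain_atPrime_of_geomUnibranch {A B : Type u} [CommRing A] [IsLocalRing A]
    (hA : CAlg2.IsGeomUnibranch A) [IsLocalRing (CAlg2.red A)] [IsDomain (CAlg2.red A)] [CommRing B]
    [Algebra (CAlg2.red A) B] [Algebra.FinitePresentation (CAlg2.red A) B] [Module.Flat (CAlg2.red A) B]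
    (q : PrimeSpectrum B) (hqm : q.asIdeal.comap (algebraMap (CAlg2.red A) B) = maximalIdeal (CAlg2.red A))
    (hq : q ∈ Sk62.giLocus (Spec.map (CommRingCat.ofHom (algebraMap (CAlg2.red A) B)))) :
    IsDomain (Localization.AtPrime q.asIdeal) := by
  let D := CAlg2.red A
  obtain ⟨N, _, _, _, _, _, hic, hint, hinj, hpi⟩ := exists_normalization A hA
  haveI := hic
  haveI := hint
  haveI := hpi
  let P := N ⊗[D] B
  let φ : B →+* P := algebraMap B P
  haveI : IsScalarTower D B P := IsScalarTower.of_algebraMap_eq fun r =>
    ((Algebra.TensorProduct.includeRight : B →ₐ[D] P).commutes r).symm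
  haveI : Algebra.IsPushout D B N P := Algebra.IsPushout.symm inferInstance
  haveI : Algebra.IsIntegral B P := ⟨fun z => by
    induction z using TensorProduct.induction_on with
    | zero => exact isIntegral_zero
    | add a b ha hb => exact ha.add hb
    | tmul n b =>
      have h1 : IsIntegral B (n ⊗ₜ[D] (1 : B) : P) :=
        ((Algebra.IsIntegral.isIntegral (R := D) n).map (Algebra.TensorProduct.includeLeft : N →ₐ[D] P)).tower_top
      have h2 := h1.mul (isIntegral_algebraMap (R := B) (A := P) (x := b))
      have h3 : (n ⊗ₜ[D] (1 : B) : P) * algebraMap B P b = n ⊗ₜ[D] b := by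
        show (n ⊗ₜ[D] (1 : B) : P) * ((1 : N) ⊗ₜ[D] b) = _
        rw [Algebra.TensorProduct.tmul_mul_tmul, mul_one, one_mul]
      exact h3 ▸ h2⟩
  have hφ : Function.Injective φ := by
    have h := Module.Flat.rTensor_preserves_injective_linearMap (M := B) (Algebra.linearMap D N) hinj
    have he : ∀ b, φ b = (Algebra.linearMap D N).rTensor B ((TensorProduct.lid D B).symm b) := fun b => by
      simp [φ]; rfl
    intro a b hab
    rw [he, he] at hab
    exact (TensorProduct.lid D B).symm.injective (h hab)
  have hover : ∀ (Q : Ideal P) [Q.IsPrime], Q.comap φ = q.asIdeal →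
      Q.comap (algebraMap N P) = maximalIdeal N := by
    intro Q _ hQ
    haveI : ((Q.comap (algebraMap N P)).under D).IsMaximal := by
      rw [Ideal.under_def, Ideal.comap_comap, ← IsScalarTower.algebraMap_eq, IsScalarTower.algebraMap_eq D B P,
        ← Ideal.comap_comap]
      show (Ideal.comap (algebraMap D B) (Q.comap φ)).IsMaximal
      rw [hQ, hqm]
      exact maximalIdeal.isMaximal D
    exact eq_maximalIdeal (Ideal.isMaximal_of_isIntegral_of_isMaximal_comap (R := D) (Q.comap (algebraMap N P)) this)
  obtain ⟨Q', -, hQ', hQ'c⟩ := Ideal.exists_ideal_over_prime_of_isIntegral q.asIdeal (⊥ : Ideal P)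
    (fun b hb => by
      have : b = 0 := hφ ((Ideal.mem_bot.1 (Ideal.mem_comap.1 hb)).trans (map_zero φ).symm)
      rw [this]; exact zero_mem _)
  have huniq : ∀ (Q : Ideal P) [Q.IsPrime], Q.comap φ = q.asIdeal → Q = Q' := fun Q _ hQ =>
    Unib62.eq_of_purelyInseparable (H := D) (S := B) (A'' := N) Q Q' (hover Q hQ) (hover Q' hQ'c) (hQ.trans hQ'c.symm)
  have h1 : IsPullback (Spec.map (CommRingCat.ofHom φ)) (Spec.map (CommRingCat.ofHom (algebraMap N P)))
      (Spec.map (CommRingCat.ofHom (algebraMap D B))) (Spec.map (CommRingCat.ofHom (algebraMap D N))) :=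
    isPullback_SpecMap_of_isPushout _ _ _ _ (CommRingCat.isPushout_of_isPushout D B N P)
  let q' : PrimeSpectrum P := ⟨Q', hQ'⟩
  have hgi : q' ∈ Sk62.giLocus (Spec.map (CommRingCat.ofHom (algebraMap N P))) := by
    refine (Sk62.mem_giLocus_of_isPullback h1 q').2 ?_
    rwa [show Spec.map (CommRingCat.ofHom φ) q' = q from PrimeSpectrum.ext hQ'c]
  haveI := isDomain_atPrime_of_normal N P q' hgi
  let ψ : B →+* Localization.AtPrime Q' := (algebraMap P _).comp φ
  have hunits : ∀ s : q.asIdeal.primeCompl, IsUnit (ψ s) := fun s =>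
    IsLocalization.map_units (Localization.AtPrime Q') (⟨φ s, fun h => s.2 (hQ'c.le h)⟩ : Q'.primeCompl)
  let Ψ : Localization.AtPrime q.asIdeal →+* Localization.AtPrime Q' := IsLocalization.lift hunits
  refine Function.Injective.isDomain Ψ ((injective_iff_map_eq_zero Ψ).2 fun x hx => ?_)
  obtain ⟨b, s, rfl⟩ := IsLocalization.exists_mk'_eq q.asIdeal.primeCompl x
  simp only [Ψ, IsLocalization.lift_mk', Units.mul_left_eq_zero] at hx
  obtain ⟨⟨t, ht⟩, htb⟩ := (IsLocalization.map_eq_zero_iff Q'.primeCompl _ _).1 hx
  rw [IsLocalization.mk'_eq_zero_iff]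
  by_contra hcon
  push Not at hcon
  let J : Ideal P := (⊥ : Submodule P P).colon {φ b}
  obtain ⟨Q, hJQ, hQ, hQc⟩ := Ideal.exists_ideal_over_prime_of_isIntegral q.asIdeal J (fun c hc => by
    by_contra hcq
    refine hcon ⟨c, hcq⟩ (hφ ?_)
    have := Submodule.mem_colon_singleton.1 (Ideal.mem_comap.1 hc)
    rw [map_mul, map_zero]
    simpa using this)
  haveI := hQ
  exact ht (huniq Q hQc ▸ hJQ (Submodule.mem_colon_singleton.2 (by simpa using htb)))

end Groth.Agent.Int62
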